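import Cfsg.Agent.Lib.Chevalley.Field

/-!
Matrices over the field with four elements on two bit planes, for kernel computations with root elements:
the row `(a, b)` stands for the vector with entries `a_j + b_j w`, where `w * w = w + 1`.
-/

set_option autoImplicit false
set_option linter.unusedSimpArgs false
set_option linter.unusedSectionVars false
set_option linter.unnecessarySeqFocus false

namespace CfsgLib.F4Mat78

open Cfsg.Lie CfsgLib.Chevalley

/-- A matrix as its list of rows, each on two bit planes. -/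
abbrev Mat : Type := List (ℕ × ℕ)

/-- Row times matrix, with accumulator (written with the recursor for fast kernel evaluation). -/
noncomputable def rowAcc (B : Mat) : ℕ → ℕ → ℕ → ℕ → ℕ × ℕ :=
  List.rec (motive := fun _ => ℕ → ℕ → ℕ → ℕ → ℕ × ℕ) (fun _ _ x y => (x, y))
    (fun r _ ih a b x y =>
      cond (Nat.beq (Nat.mod a 2) 1)
        (cond (Nat.beq (Nat.mod b 2) 1)
          (ih (Nat.div a 2) (Nat.div b 2) (Nat.xor (Nat.xor r.1 r.2) x) (Nat.xor r.1 y))
          (ih (Nat.div a 2) (Nat.div b 2) (Nat.xor r.1 x) (Nat.xor r.2 y)))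
        (cond (Nat.beq (Nat.mod b 2) 1)
          (ih (Nat.div a 2) (Nat.div b 2) (Nat.xor r.2 x) (Nat.xor (Nat.xor r.1 r.2) y))
          (ih (Nat.div a 2) (Nat.div b 2) x y))) B

/-- Row times matrix. -/
noncomputable def rowMul (a b : ℕ) (B : Mat) : ℕ × ℕ := rowAcc B a b 0 0

/-- Matrix product. -/
noncomputable def mulM (A B : Mat) : Mat := A.map fun r => rowMul r.1 r.2 B

/-- The identity. -/
def oneM (n : ℕ) : Mat := (List.range n).map fun i => (2 ^ i, 0)

/-- The product of a list of matrices. -/
noncomputable def prodM (n : ℕ) (l : List Mat) : Mat := l.foldr mulM (oneM n)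

/-- The row `x` of the parity of a sparse integer matrix. -/
def coefRow (L : Sparse.SMat) (x : ℕ) : ℕ :=
  L.foldr (fun e acc => if e.1 == x && e.2.2.natAbs % 2 == 1 then (2 ^ e.2.1) ^^^ acc else acc) 0

variable (D : ChevalleyDatum)

/-- The root element `x_r(p + q w)`. -/
def genM (p q : Bool) (r : ℕ) : Mat :=
  (List.range (D.rank + D.nroots)).map fun i =>
    let c1 := coefRow (coefList D 1 r) i
    let c2 := coefRow (coefList D 2 r) i
    let c3 := coefRow (coefList D 3 r) i
    ((2 ^ i ^^^ (if p then c1 else 0)) ^^^ ((if p != q then c2 else 0) ^^^ (if p || q then c3 else 0)),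
      (if q then c1 else 0) ^^^ (if q then c2 else 0))

variable {K : Type*} [Field K]

/-- The element `a + b w`. -/
def val (w : K) (a b : Bool) : K := (if a then 1 else 0) + w * (if b then 1 else 0)

/-- An entry of a packed matrix. -/
def ent (w : K) (M : Mat) (i j : ℕ) : K :=
  val w ((M.getD i (0, 0)).1.testBit j) ((M.getD i (0, 0)).2.testBit j)

/-- The matrix of a packed matrix. -/
def toMat (w : K) (M : Mat) : Matrix D.Idx D.Idx K :=
  Matrix.of fun a b => ent w M ((code D a : Fin _) : ℕ) ((code D b : Fin _) : ℕ)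

/-- `g` is given by the packed matrix `M`. -/
def Rep (w : K) (g : GL D.Idx K) (M : Mat) : Prop :=
  M.length = D.rank + D.nroots ∧ (g : Matrix D.Idx D.Idx K) = toMat D w M

variable {D} [CharP K 2] {w : K}

theorem val_xor (a b c d : Bool) : val w (a ^^ c) (b ^^ d) = val w a b + val w c d := by
  have h2 : (1 : K) + 1 = 0 := CharTwo.add_self_eq_zero 1
  cases a <;> cases b <;> cases c <;> cases d <;> simp [val] <;>
    first
      | linear_combination (-1 : K) * h2 | linear_combination (-w) * h2
      | linear_combination (-1 - w) * h2 | ring1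

variable (hw : w * w = w + 1)

include hw

theorem val_mul (a b c d : Bool) :
    val w a b * val w c d = val w ((a && c) ^^ (b && d)) (((a && d) ^^ (b && c)) ^^ (b && d)) := by
  have h2 : (1 : K) + 1 = 0 := CharTwo.add_self_eq_zero 1
  cases a <;> cases b <;> cases c <;> cases d <;> simp [val, hw] <;>
    first
      | linear_combination hw | linear_combination hw + h2 | linear_combination hw + w * h2
      | linear_combination hw + (1 + w) * h2 | linear_combination w * h2 | linear_combination h2
      | linear_combination (1 + w) * h2 | ring1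

theorem rowAcc_spec (j : ℕ) : ∀ (B : Mat) (a b x y : ℕ),
    val w ((rowAcc B a b x y).1.testBit j) ((rowAcc B a b x y).2.testBit j) =
      ∑ k ∈ Finset.range B.length, val w (a.testBit k) (b.testBit k) * ent w B k j +
        val w (x.testBit j) (y.testBit j) := by
  intro B
  induction B with
  | nil => intro a b x y; simp [rowAcc]
  | cons r rest ih =>
    intro a b x y
    rw [List.length_cons, Finset.sum_range_succ']
    have e : ∀ (c d : ℕ),
        val w ((rowAcc rest (a / 2) (b / 2) c d).1.testBit j) ((rowAcc rest (a / 2) (b / 2) c d).2.testBit j) =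
          ∑ k ∈ Finset.range rest.length, val w (a.testBit (k + 1)) (b.testBit (k + 1)) * ent w (r :: rest) (k + 1) j +
            val w (c.testBit j) (d.testBit j) := fun c d => by
      rw [ih]; simp [ent, Nat.testBit_succ]
    have e0 : val w (a.testBit 0) (b.testBit 0) * ent w (r :: rest) 0 j + val w (x.testBit j) (y.testBit j) =
        val w (((a.testBit 0 && r.1.testBit j) ^^ (b.testBit 0 && r.2.testBit j)) ^^ x.testBit j)
          ((((a.testBit 0 && r.2.testBit j) ^^ (b.testBit 0 && r.1.testBit j)) ^^ (b.testBit 0 && r.2.testBit j)) ^^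
            y.testBit j) := by
      rw [val_xor, ← val_mul hw]; simp [ent]
    rw [add_assoc, e0]
    have step : rowAcc (r :: rest) a b x y =
        cond (decide (a % 2 = 1))
          (cond (decide (b % 2 = 1)) (rowAcc rest (a / 2) (b / 2) ((r.1 ^^^ r.2) ^^^ x) (r.1 ^^^ y))
            (rowAcc rest (a / 2) (b / 2) (r.1 ^^^ x) (r.2 ^^^ y)))
          (cond (decide (b % 2 = 1)) (rowAcc rest (a / 2) (b / 2) (r.2 ^^^ x) ((r.1 ^^^ r.2) ^^^ y))
            (rowAcc rest (a / 2) (b / 2) x y)) := by
      rcases Nat.mod_two_eq_zero_or_one a with ha | ha <;> rcases Nat.mod_two_eq_zero_or_one b with hb | hb <;>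
        · show cond (Nat.beq (a % 2) 1) (cond (Nat.beq (b % 2) 1) _ _) (cond (Nat.beq (b % 2) 1) _ _) = _
          rw [ha, hb]; rfl
    rw [step, Nat.testBit_zero, Nat.testBit_zero]
    rcases Nat.mod_two_eq_zero_or_one a with ha | ha <;> rcases Nat.mod_two_eq_zero_or_one b with hb | hb <;>
      simp [ha, hb, e, Nat.testBit_xor]
    cases r.1.testBit j <;> cases r.2.testBit j <;> simp

theorem rowMul_spec (j : ℕ) (B : Mat) (a b : ℕ) :
    val w ((rowMul a b B).1.testBit j) ((rowMul a b B).2.testBit j) =
      ∑ k ∈ Finset.range B.length, val w (a.testBit k) (b.testBit k) * ent w B k j := by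
  rw [rowMul, rowAcc_spec hw]; simp [val]

theorem toMat_mul {A B : Mat} (hA : A.length = D.rank + D.nroots) (hB : B.length = D.rank + D.nroots) :
    toMat D w (mulM A B) = toMat D w A * toMat D w B := by
  ext a c
  rw [Matrix.mul_apply]
  simp only [toMat, Matrix.of_apply]
  have hi : ((code D a : Fin _) : ℕ) < A.length := by rw [hA]; exact (code D a).isLt
  conv_lhs => rw [ent, mulM, List.getD_eq_getElem?_getD, List.getElem?_map, List.getElem?_eq_getElem hi,
    Option.map_some, Option.getD_some, rowMul_spec hw, hB]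
  rw [Finset.sum_range, ← (code D).sum_comp fun k => _]
  refine Finset.sum_congr rfl fun k _ => ?_
  simp [ent, List.getD_eq_getElem?_getD, List.getElem?_eq_getElem hi]

omit hw in
theorem toMat_one : toMat D w (oneM (D.rank + D.nroots)) = 1 := by
  ext a b
  rw [toMat, Matrix.of_apply, ent, oneM, List.getD_eq_getElem?_getD,
    List.getElem?_eq_getElem (by simp), Option.getD_some]
  simp [Nat.testBit_two_pow, Matrix.one_apply, val, Fin.val_inj]

theorem Rep.mul {g h : GL D.Idx K} {A B : Mat} (hg : Rep D w g A) (hh : Rep D w h B) :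
    Rep D w (g * h) (mulM A B) :=
  ⟨by rw [mulM, List.length_map, hg.1], by rw [Units.val_mul, hg.2, hh.2, toMat_mul hw hg.1 hh.1]⟩

omit hw in
theorem Rep.one : Rep D w 1 (oneM (D.rank + D.nroots)) :=
  ⟨by simp [oneM], by rw [toMat_one, Units.val_one]⟩

theorem Rep.prod {l : List (GL D.Idx K)} {L : List Mat} (h : List.Forall₂ (Rep D w) l L) :
    Rep D w l.prod (prodM (D.rank + D.nroots) L) := by
  induction h with
  | nil => exact Rep.one
  | cons h1 _ ih => exact h1.mul hw ih

omit hw in
theorem Rep.eq {g h : GL D.Idx K} {A B : Mat} (hg : Rep D w g A) (hh : Rep D w h B) (e : A = B) : g = h :=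
  Units.ext (by rw [hg.2, hh.2, e])

omit hw in
theorem coefRow_spec (y : ℕ) : ∀ (L : Sparse.SMat) (x : ℕ),
    ((Sparse.entry L x y : ℤ) : K) = if (coefRow L x).testBit y then 1 else 0 := by
  intro L
  induction L with
  | nil => intro x; simp [coefRow, Sparse.entry]
  | cons e L ih =>
    intro x
    have hz : ((e.2.2 : ℤ) : K) = if e.2.2.natAbs % 2 == 1 then 1 else 0 := by
      rcases Int.emod_two_eq_zero_or_one e.2.2 with h | h
      · obtain ⟨k, hk⟩ := Int.dvd_of_emod_eq_zero h
        rw [if_neg (by simp; omega), hk]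
        simp [CharTwo.two_eq_zero]
      · obtain ⟨k, hk⟩ : ∃ k, e.2.2 = 2 * k + 1 := ⟨e.2.2 / 2, by omega⟩
        rw [if_pos (by simp; omega), hk]
        simp [CharTwo.two_eq_zero]
    have e1 : coefRow (e :: L) x =
        if e.1 == x && e.2.2.natAbs % 2 == 1 then (2 ^ e.2.1) ^^^ coefRow L x else coefRow L x := rfl
    rw [Sparse.entry_cons, e1]
    change ((_ + Sparse.entry L x y : ℤ) : K) = _
    rw [Int.cast_add, ih x]
    have h2 : (1 : K) + 1 = 0 := CharTwo.add_self_eq_zero 1
    cases ho : (e.2.2.natAbs % 2 == 1) <;> simp only [ho, if_true, if_false, Bool.false_eq_true] at hz <;>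
      by_cases h1 : e.1 = x <;> by_cases h3 : e.2.1 = y <;>
      simp [h1, h3, hz, Nat.testBit_xor, Nat.testBit_two_pow] <;>
      cases (coefRow L x).testBit y <;> simp [h2]

theorem key (p q d c1 c2 c3 : Bool) :
    (if d then (1 : K) else 0) + val w p q * (if c1 then 1 else 0) + val w p q ^ 2 * (if c2 then 1 else 0) +
        val w p q ^ 3 * (if c3 then 1 else 0) =
      val w ((d ^^ (p && c1)) ^^ (((p ^^ q) && c2) ^^ ((p || q) && c3))) ((q && c1) ^^ (q && c2)) := by
  have hb : ∀ b : Bool, (if b then (1 : K) else 0) = val w b false := fun b => by cases b <;> simp [val]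
  simp only [hb, pow_succ', pow_zero, mul_one]
  simp only [val_mul hw, ← val_xor]
  cases p <;> cases q <;> cases d <;> cases c1 <;> cases c2 <;> cases c3 <;> rfl

theorem x_eq_toMat {A : Aux} (hC : Cert D A) {r : ℕ} (hr : r < D.nroots) (p q : Bool) :
    D.x K r (val w p q) = toMat D w (genM D p q r) := by
  ext a b
  rw [x_eq_xR D K hr, xR_eq_sum D hC.wf, toMat, Matrix.of_apply, ent, genM, List.getD_eq_getElem?_getD,
    List.getElem?_eq_getElem (by simp), Option.getD_some]
  simp only [List.getElem_map, List.getElem_range, coefIn, coefMat, Matrix.add_apply, Matrix.smul_apply,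
    Matrix.map_apply, Sparse.toMat_apply, coefRow_spec, smul_eq_mul]
  have hd : (1 : Matrix D.Idx D.Idx K) a b =
      if (2 ^ ((code D a : Fin _) : ℕ)).testBit (code D b) then 1 else 0 := by
    simp [Matrix.one_apply, Nat.testBit_two_pow, Fin.val_inj]
  rw [hd, key hw]
  cases p <;> cases q <;> simp [Nat.testBit_xor]

theorem rep_xG {A : Aux} (hC : Cert D A) {r : ℕ} (hr : r < D.nroots) (p q : Bool) :
    Rep D w (xG hC r (val w p q)) (genM D p q r) :=
  ⟨by simp [genM], by rw [coe_xG, x_eq_toMat hw hC hr]⟩

variable (D) in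
/-- The vector of a packed row. -/
def vec (w : K) (r : ℕ × ℕ) : D.Idx → K := fun b =>
  val w (r.1.testBit ((code D b : Fin _) : ℕ)) (r.2.testBit ((code D b : Fin _) : ℕ))

omit hw in
theorem toMat_row (M : Mat) (a : D.Idx) : toMat D w M a = vec D w (M.getD (code D a : Fin _) (0, 0)) := rfl

theorem vecMul_toMat {B : Mat} (hB : B.length = D.rank + D.nroots) (r : ℕ × ℕ) :
    Matrix.vecMul (vec D w r) (toMat D w B) = vec D w (rowMul r.1 r.2 B) := by
  funext c
  rw [Matrix.vecMul, dotProduct, vec, rowMul_spec hw, hB, Finset.sum_range, ← (code D).sum_comp fun k => _]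
  rfl

variable (D) in
/-- Checkable certificate that only scalars commute with the matrices `Ys` and `Am`. -/
def scalarCheck (Am rows inv : Mat) (Ys : List Mat) (steps : List (ℕ × ℕ)) (i0 j0 : ℕ) : Prop :=
  i0 < D.rank + D.nroots ∧ j0 < D.rank + D.nroots ∧ rows.length = D.rank + D.nroots ∧
    inv.length = D.rank + D.nroots ∧ rows.getD 0 (0, 0) = Am.getD i0 (0, 0) ∧
    Am.map (fun r => rowMul (Nat.shiftRight r.1 j0) (Nat.shiftRight r.2 j0) [Am.getD i0 (0, 0)]) = Am ∧
    (∀ k ∈ List.range (D.rank + D.nroots), k = 0 ∨ (steps.getD k (0, 0)).1 < k ∧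
      (steps.getD k (0, 0)).2 < Ys.length ∧
      rows.getD k (0, 0) = rowMul (rows.getD (steps.getD k (0, 0)).1 (0, 0)).1
        (rows.getD (steps.getD k (0, 0)).1 (0, 0)).2 (Ys.getD (steps.getD k (0, 0)).2 [])) ∧
    mulM inv rows = oneM (D.rank + D.nroots)

/-- Only scalar matrices commute with a rank-one matrix and matrices moving its row over a spanning set. -/
theorem scalar_of_cert {Am rows inv : Mat} {Ys : List Mat} {steps : List (ℕ × ℕ)} {i0 j0 : ℕ}
    (h : scalarCheck D Am rows inv Ys steps i0 j0) (hY : ∀ M ∈ Ys, M.length = D.rank + D.nroots)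
    (hAm : Am.length = D.rank + D.nroots)
    {C : Matrix D.Idx D.Idx K} (hCA : C * toMat D w Am = toMat D w Am * C)
    (hCY : ∀ M ∈ Ys, C * toMat D w M = toMat D w M * C) : ∃ c : K, C = c • (1 : Matrix D.Idx D.Idx K) := by
  obtain ⟨hi, hj, hR, hI, h0, hrank, hstep, hinv⟩ := h
  set a : D.Idx := (code D).symm ⟨i0, hi⟩ with ha
  set b : D.Idx := (code D).symm ⟨j0, hj⟩ with hb
  set v := Am.getD i0 (0, 0) with hv
  have hA : ∀ k j, toMat D w Am k j = toMat D w Am k b * vec D w v j := by
    intro k j
    have hk : ((code D k : Fin _) : ℕ) < Am.length := by rw [hAm]; exact (code D k).isLt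
    have e := congrArg (fun L : Mat => L.getD (code D k : Fin _) (0, 0)) hrank
    simp only [List.getD_eq_getElem?_getD, List.getElem?_map, List.getElem?_eq_getElem hk, Option.map_some,
      Option.getD_some] at e
    rw [toMat_row, List.getD_eq_getElem?_getD, List.getElem?_eq_getElem hk, Option.getD_some]
    conv_lhs => rw [vec, ← e, rowMul_spec hw]
    simp [vec, ent, hb, Nat.testBit_shiftRight]
  have hvC : Matrix.vecMul (vec D w v) C = (C * toMat D w Am) a b • vec D w v := by
    funext j
    have e1 : (toMat D w Am * C) a j = Matrix.vecMul (vec D w v) C j := by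
      rw [Matrix.mul_apply, toMat_row, ha, Equiv.apply_symm_apply]; rfl
    rw [← e1, ← hCA, Pi.smul_apply, smul_eq_mul, Matrix.mul_apply, Matrix.mul_apply, Finset.sum_mul]
    exact Finset.sum_congr rfl fun k _ => by rw [hA k j]; ring
  set c := (C * toMat D w Am) a b
  have hrows : ∀ k < D.rank + D.nroots,
      Matrix.vecMul (vec D w (rows.getD k (0, 0))) C = c • vec D w (rows.getD k (0, 0)) := by
    intro k
    induction k using Nat.strong_induction_on with
    | _ k ih =>
      intro hk
      rcases hstep k (List.mem_range.2 hk) with rfl | ⟨hp, hg, e⟩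
      · rw [h0]; exact hvC
      · have hmem : Ys.getD (steps.getD k (0, 0)).2 [] ∈ Ys := by
          rw [List.getD_eq_getElem?_getD, List.getElem?_eq_getElem hg, Option.getD_some]; exact List.getElem_mem hg
        rw [e, ← vecMul_toMat hw (hY _ hmem), Matrix.vecMul_vecMul, ← hCY _ hmem, ← Matrix.vecMul_vecMul,
          ih _ hp (hp.trans hk), Matrix.smul_vecMul]
  refine ⟨c, ?_⟩
  have e1 : toMat D w inv * toMat D w rows = 1 := by rw [← toMat_mul hw hI hR, hinv, toMat_one]
  have e2 : toMat D w rows * C = c • toMat D w rows := by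
    ext k j
    exact congrFun (hrows _ (code D k).isLt) j
  calc C = toMat D w inv * toMat D w rows * C := by rw [e1, one_mul]
    _ = c • 1 := by rw [mul_assoc, e2, Matrix.mul_smul, e1]

end CfsgLib.F4Mat78
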